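import Groth.Agent.DimFunLift.PullBC
import Groth.Agent.LimSch.Stalks
import Groth.Agent.LimSch.Points
import Groth.Agent.LimSch.Topology
import Groth.Prelude.Def_Cyc

/-!
Cycles on a limit of schemes with flat affine transition maps.
-/

set_option autoImplicit false
set_option linter.style.haveILetI false
set_option backward.isDefEq.respectTransparency.types false

universe u

open AlgebraicGeometry CategoryTheory CategoryTheory.Limits IsLocalRing

namespace Groth.Agent.CycLimit

variable {X Y Z : Scheme.{u}} (f : X ⟶ Y)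

theorem pullFun_eq (δX : X → ℤ) (δY : Y → ℤ)
    (hc : ∀ x, FlatEquidim.IsFibreMax f x → δX x = δY (f x)) (α : Y → ℤ) (x : X) :
    Cyc.pullFun f δX δY 0 α x = α (f x) * (DimFunLift.pullLen f x : ℤ) := by
  unfold Cyc.pullFun
  by_cases hl : DimFunLift.pullLen f x = 0
  · have e : (Module.length (X.presheaf.stalk x) (X.presheaf.stalk x ⧸
        Ideal.map (f.stalkMap x).hom (maximalIdeal (Y.presheaf.stalk (f x))))).toNat = 0 := hl
    rw [e, hl]
    simp
  · rw [if_pos (by rw [hc x (DimFunLift.isFibreMax_of_pullLen_ne_zero f hl), add_zero])]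

theorem map_maximalIdeal_le (x : X) :
    Ideal.map (f.stalkMap x).hom (maximalIdeal (Y.presheaf.stalk (f x))) ≤
      maximalIdeal (X.presheaf.stalk x) :=
  Ideal.map_le_iff_le_comap.2 fun _ ha => map_nonunit _ _ ha

theorem eq_one_of_map_maximalIdeal_eq {x : X}
    (h : Ideal.map (f.stalkMap x).hom (maximalIdeal (Y.presheaf.stalk (f x))) =
      maximalIdeal (X.presheaf.stalk x)) : DimFunLift.pullLen f x = 1 := by
  unfold DimFunLift.pullLen
  rw [h]
  have : IsSimpleModule (X.presheaf.stalk x) (X.presheaf.stalk x ⧸ maximalIdeal (X.presheaf.stalk x)) :=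
    isSimpleModule_iff_isCoatom.2 (Ideal.isMaximal_def.1 (maximalIdeal.isMaximal _))
  rw [Module.length_eq_one]
  rfl

theorem pullLen_ne_zero [IsLocallyNoetherian X] {x : X} (hx : FlatEquidim.IsFibreMax f x) :
    DimFunLift.pullLen f x ≠ 0 := by
  let I := Ideal.map (f.stalkMap x).hom (maximalIdeal (Y.presheaf.stalk (f x)))
  let A := X.presheaf.stalk x ⧸ I
  have hIle : I ≤ maximalIdeal _ := map_maximalIdeal_le f x
  have : Nontrivial A := Ideal.Quotient.nontrivial_iff.2 fun h => (maximalIdeal.isMaximal _).ne_top (top_le_iff.1 (h ▸ hIle))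
  have hmax : ∀ P : Ideal (X.presheaf.stalk x), P.IsPrime → I ≤ P → P = maximalIdeal _ := by
    intro P hP hIP
    let a : PrimeSpectrum (X.presheaf.stalk x) := ⟨P, hP⟩
    have hsp := CycLib.fromSpecStalk_specializes a
    have hfa : f (X.fromSpecStalk x a) = f x := by
      have h2 : (Spec.map (f.stalkMap x)) a = IsLocalRing.closedPoint (Y.presheaf.stalk (f x)) :=
        PrimeSpectrum.ext ((le_antisymm (le_maximalIdeal (Ideal.IsPrime.comap _ (hK := hP)).ne_top)
          (Ideal.map_le_iff_le_comap.1 hIP)))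
      rw [← Scheme.Hom.comp_apply, ← Scheme.SpecMap_stalkMap_fromSpecStalk, Scheme.Hom.comp_apply, h2,
        Scheme.fromSpecStalk_closedPoint]
    have h3 : a = IsLocalRing.closedPoint (X.presheaf.stalk x) := by
      apply (X.fromSpecStalk x).isEmbedding.injective
      rw [Scheme.fromSpecStalk_closedPoint]
      exact hx _ hsp hfa
    exact congrArg PrimeSpectrum.asIdeal h3
  have : IsArtinianRing A := by
    rw [isArtinianRing_iff_isNoetherianRing_krullDimLE_zero]
    refine ⟨inferInstance, Ring.krullDimLE_zero_iff.2 fun P hP => ?_⟩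
    have hQ := hmax (P.comap (Ideal.Quotient.mk I)) inferInstance
      ((Ideal.mk_ker (I := I)).symm.le.trans (Ideal.comap_mono bot_le))
    have : (P.comap (Ideal.Quotient.mk I)).IsMaximal := hQ ▸ maximalIdeal.isMaximal _
    exact (Ideal.map_comap_of_surjective _ Ideal.Quotient.mk_surjective P) ▸
      (Ideal.map_eq_top_or_isMaximal_of_surjective _ Ideal.Quotient.mk_surjective this).resolve_left
        (by rw [Ideal.map_comap_of_surjective _ Ideal.Quotient.mk_surjective P]; exact hP.ne_top)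
  have hfl : Module.length A A ≠ ⊤ :=
    Module.length_ne_top_iff.2 (isFiniteLength_iff_isNoetherian_isArtinian.2 ⟨inferInstance, inferInstance⟩)
  have e : Module.length (X.presheaf.stalk x) A = Module.length A A :=
    (Module.length_eq_of_surjective (R := A) (S := X.presheaf.stalk x) (M := A) Ideal.Quotient.mk_surjective)
  show (Module.length (X.presheaf.stalk x) A).toNat ≠ 0
  rw [Ne, ENat.toNat_eq_zero, not_or, e]
  exact ⟨(Module.length_pos (R := A) (M := A)).ne', hfl⟩

theorem map_le_of_eq {g : Y ⟶ Z} {h : X ⟶ Z} (e : f ≫ g = h) (x : X) :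
    Ideal.map (h.stalkMap x).hom (maximalIdeal (Z.presheaf.stalk (h x))) ≤
      Ideal.map (f.stalkMap x).hom (maximalIdeal (Y.presheaf.stalk (f x))) := by
  subst e
  refine Ideal.map_le_iff_le_comap.2 fun a ha => ?_
  rw [Ideal.mem_comap, Scheme.Hom.stalkMap_comp]
  exact Ideal.mem_map_of_mem _ (map_nonunit (g.stalkMap (f x)).hom _ ha)

theorem exists_fibreMax_eq {x : Y} (h : x ∈ Set.range f) :
    ∃ z, f z = x ∧ FlatEquidim.IsFibreMax f z := by
  obtain ⟨w, rfl⟩ := h
  obtain ⟨g, -, hgT⟩ := DimFunLift.exists_generic (f.asFiber w)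
  refine ⟨f.fiberι (f w) g, FlatEquidim.fiberι_apply_eq f _ g, fun v hv he => ?_⟩
  obtain ⟨v, rfl⟩ : v ∈ Set.range (f.fiberι (f w)) := by
    rw [Scheme.Hom.range_fiberι]; exact he.trans (FlatEquidim.fiberι_apply_eq f _ g)
  have hwg : v ⤳ g := (f.fiberι (f w)).isEmbedding.isInducing.specializes_iff.1 hv
  have hsub : closure {v} ⊆ closure {g} := hgT.2 isIrreducible_singleton.closure hwg.closure_subset
  rw [(hwg.antisymm (specializes_iff_mem_closure.2 (hsub (subset_closure rfl)))).eq]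

section Limit

variable {I : Type u} [SmallCategory I] [IsCofiltered I] {D : I ⥤ Scheme.{u}} {c : Cone D}
  [∀ (i j : I) (f : i ⟶ j), IsAffineHom (D.map f)]

/-- A finite set of points missing the image of the limit misses the image of some stage. -/
theorem exists_notMem_range (hc : IsLimit c) (i : I) {S : Set (D.obj i)} (hS : S.Finite)
    (h : ∀ x ∈ S, x ∉ Set.range (c.π.app i)) :
    ∃ (j : I) (φ : j ⟶ i), ∀ x ∈ S, x ∉ Set.range (D.map φ) := by
  induction S, hS using Set.Finite.induction_on with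
  | empty => exact ⟨i, 𝟙 i, fun x hx => absurd hx (Set.notMem_empty x)⟩
  | @insert a S _ _ ih =>
    obtain ⟨j, φ, hj⟩ := ih fun x hx => h x (Set.mem_insert_of_mem _ hx)
    have ha := h a (Set.mem_insert _ _)
    rw [LimSch.range_π_eq_iInter hc, Set.mem_iInter₂] at ha
    push Not at ha
    obtain ⟨k, ψ, hk⟩ := ha
    obtain ⟨l, u, v, hw⟩ : ∃ (l : I) (u : l ⟶ j) (v : l ⟶ k), u ≫ φ = v ≫ ψ :=
      IsCofiltered.cospan φ ψ
    refine ⟨l, u ≫ φ, fun x hx => ?_⟩
    rintro ⟨y, rfl⟩
    rcases Set.mem_insert_iff.1 hx with rfl | hx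
    · exact hk ⟨D.map v y, by rw [← Scheme.Hom.comp_apply, ← D.map_comp, ← hw]⟩
    · exact hj _ hx ⟨D.map u y, by rw [← Scheme.Hom.comp_apply, ← D.map_comp]⟩

variable (c) in
/-- At stage `i` the closure of the image of `x` cuts out the closure of `x` with its ideal. -/
def IsGood (i : I) (x : c.pt) : Prop :=
  (∀ y, c.π.app i x ⤳ c.π.app i y → x ⤳ y) ∧
    Ideal.map ((c.π.app i).stalkMap x).hom (maximalIdeal ((D.obj i).presheaf.stalk (c.π.app i x))) =
      maximalIdeal (c.pt.presheaf.stalk x)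

omit [IsCofiltered I] [∀ (i j : I) (f : i ⟶ j), IsAffineHom (D.map f)] in
theorem specializes_map {i j : I} (φ : j ⟶ i) {x y : c.pt} (h : c.π.app j x ⤳ c.π.app j y) :
    c.π.app i x ⤳ c.π.app i y := by
  have := h.map (D.map φ).continuous
  rwa [← Scheme.Hom.comp_apply, ← Scheme.Hom.comp_apply, c.w] at this

omit [IsCofiltered I] [∀ (i j : I) (f : i ⟶ j), IsAffineHom (D.map f)] in
theorem IsGood.mono {i j : I} (φ : j ⟶ i) {x : c.pt} (h : IsGood c i x) : IsGood c j x :=
  ⟨fun y hy => h.1 y (specializes_map φ hy), le_antisymm (map_maximalIdeal_le _ x)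
    (h.2.symm.le.trans (map_le_of_eq (c.π.app j) (c.w φ) x))⟩

theorem exists_isGood_top (hc : IsLimit c) [IsNoetherian c.pt] (i : I) (x : c.pt) :
    ∃ (j : I) (_ : j ⟶ i), ∀ y, c.π.app j x ⤳ c.π.app j y → x ⤳ y := by
  let C : (Σ j : I, (j ⟶ i)) → TopologicalSpace.Closeds c.pt := fun p =>
    ⟨c.π.app p.1 ⁻¹' closure {c.π.app p.1 x}, isClosed_closure.preimage (c.π.app p.1).continuous⟩
  obtain ⟨_, ⟨⟨j, φ⟩, rfl⟩, hmin⟩ :=
    (wellFounded_lt (α := TopologicalSpace.Closeds c.pt)).has_min (Set.range C) ⟨_, ⟨i, 𝟙 i⟩, rfl⟩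
  refine ⟨j, φ, fun y hy => ?_⟩
  by_contra hn
  obtain ⟨U, hU, hyU, hxU⟩ := not_specializes_iff_exists_open.1 hn
  obtain ⟨k, ψ, V, -, hyV, hVU⟩ := LimSch.exists_preimage_subset hc j hU hyU
  have hle : C ⟨k, ψ ≫ φ⟩ ≤ C ⟨j, φ⟩ := fun z hz =>
    specializes_iff_mem_closure.1 (specializes_map ψ (specializes_iff_mem_closure.2 hz))
  have hne : C ⟨k, ψ ≫ φ⟩ ≠ C ⟨j, φ⟩ := fun e => by
    have h1 : y ∈ C ⟨k, ψ ≫ φ⟩ := e ▸ (specializes_iff_mem_closure.1 hy : y ∈ C ⟨j, φ⟩)
    exact hxU (hVU ((specializes_iff_mem_closure.2 h1).mem_open V.isOpen hyV))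
  exact hmin _ ⟨_, rfl⟩ (lt_of_le_of_ne hle hne)

theorem exists_isGood (hc : IsLimit c) [IsNoetherian c.pt] (i : I) (x : c.pt) :
    ∃ (j : I) (_ : j ⟶ i), IsGood c j x := by
  classical
  obtain ⟨j0, φ0, h0⟩ := exists_isGood_top hc i x
  have hfg : (maximalIdeal (c.pt.presheaf.stalk x)).FG := IsNoetherian.noetherian _
  obtain ⟨s, hs⟩ := hfg
  suffices ∀ t : Finset (c.pt.presheaf.stalk x), (∀ a ∈ t, a ∈ maximalIdeal _) →
      ∃ (j : I) (_ : j ⟶ j0), ∀ a ∈ t, a ∈ Ideal.map ((c.π.app j).stalkMap x).hom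
        (maximalIdeal ((D.obj j).presheaf.stalk (c.π.app j x))) by
    obtain ⟨j, φ, hj⟩ := this s fun a ha => hs ▸ Ideal.subset_span ha
    exact ⟨j, φ ≫ φ0, fun y hy => h0 y (specializes_map φ hy),
      le_antisymm (map_maximalIdeal_le _ x) (hs ▸ Ideal.span_le.2 fun a ha => hj a ha)⟩
  intro t
  induction t using Finset.induction_on with
  | empty => exact fun _ => ⟨j0, 𝟙 j0, fun a ha => absurd ha (Finset.notMem_empty a)⟩
  | insert a t _ ih =>
    intro ht
    obtain ⟨j, φ, hj⟩ := ih fun b hb => ht b (Finset.mem_insert_of_mem hb)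
    obtain ⟨k, ψ, b, hb⟩ := LimSch.exists_stalkMap_eq hc j x a
    refine ⟨k, ψ ≫ φ, fun a' ha' => ?_⟩
    rcases Finset.mem_insert.1 ha' with rfl | ha'
    · rw [← hb]
      refine Ideal.mem_map_of_mem _ fun hu => ht a' (Finset.mem_insert_self _ _) ?_
      rw [← hb]
      exact hu.map _
    · exact map_le_of_eq (c.π.app k) (c.w ψ) x (hj a' ha')

theorem exists_isGood_finset (hc : IsLimit c) [IsNoetherian c.pt] (S : Finset c.pt) :
    ∃ i : I, ∀ x ∈ S, IsGood c i x := by
  classical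
  induction S using Finset.induction_on with
  | empty =>
    obtain ⟨i⟩ := IsCofiltered.nonempty (C := I)
    exact ⟨i, fun x hx => absurd hx (Finset.notMem_empty x)⟩
  | insert a S _ ih =>
    obtain ⟨i, hi⟩ := ih
    obtain ⟨j, φ, hj⟩ := exists_isGood hc i a
    refine ⟨j, fun x hx => ?_⟩
    rcases Finset.mem_insert.1 hx with rfl | hx
    · exact hj
    · exact (hi x hx).mono φ

end Limit

end Groth.Agent.CycLimit
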